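import Mathlib.AlgebraicGeometry.Morphisms.Flat
import Mathlib.AlgebraicGeometry.Morphisms.FlatDescent
import Mathlib.AlgebraicGeometry.Morphisms.UniversallyOpen
import Mathlib.AlgebraicGeometry.Morphisms.Affine
import Mathlib.AlgebraicGeometry.Morphisms.QuasiSeparated

/-! # Descent along flat surjective families without quasi-compactness -/

universe u

open CategoryTheory CategoryTheory.Limits AlgebraicGeometry

namespace Groth.Agent.FlatDesc26

variable {X Y : Scheme.{u}}

/-- Homeomorphisms descend along flat covering families for quasi-compact morphisms. -/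
theorem isHomeomorph_of_forall_point (f : X ⟶ Y) [QuasiCompact f]
    (h : ∀ y : Y, ∃ (W : Scheme.{u}) (j : W ⟶ Y) (_ : Flat j), y ∈ Set.range j ∧
      IsHomeomorph (pullback.snd f j).base) : IsHomeomorph f.base := by
  have inj : Function.Injective f := by
    intro a b e
    obtain ⟨W, j, _, ⟨w, hw⟩, hh⟩ := h (f a)
    obtain ⟨p, hp, hp'⟩ := Scheme.Pullback.exists_preimage_pullback a w hw.symm
    obtain ⟨q, hq, hq'⟩ := Scheme.Pullback.exists_preimage_pullback b w (e.symm.trans hw.symm)
    rw [← hp, ← hq, hh.injective (hp'.trans hq'.symm)]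
  have surj : Function.Surjective f := by
    intro y
    obtain ⟨W, j, _, ⟨w, rfl⟩, hh⟩ := h y
    obtain ⟨p, hp⟩ := hh.surjective w
    refine ⟨pullback.fst f j p, ?_⟩
    rw [← Scheme.Hom.comp_apply, pullback.condition, Scheme.Hom.comp_apply]
    exact congrArg j hp
  have spec : SpecializingMap f := by
    intro x y₀ hxy
    obtain ⟨W, j, _, ⟨w₀, rfl⟩, hh⟩ := h y₀
    obtain ⟨w, hw, hww⟩ := Flat.generalizingMap (f := j) (show f x ⤳ j w₀ from hxy)
    obtain ⟨p, hp, hp'⟩ := Scheme.Pullback.exists_preimage_pullback x w hww.symm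
    obtain ⟨p₀, hp₀⟩ := hh.surjective w₀
    have hpp : p ⤳ p₀ := by
      refine (hh.isInducing.specializes_iff).1 ?_
      rw [hp₀]
      exact hp' ▸ hw
    refine ⟨pullback.fst f j p₀, hp ▸ hpp.map (pullback.fst f j).continuous, ?_⟩
    rw [← Scheme.Hom.comp_apply, pullback.condition, Scheme.Hom.comp_apply]
    exact congrArg j hp₀
  have hcl : IsClosedMap f := (isClosedMap_iff_specializingMap f).2 spec
  refine ⟨f.continuous, fun U hU => ?_, inj, surj⟩
  rw [← compl_compl U, Set.image_compl_eq ⟨inj, surj⟩]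
  exact (hcl _ hU.isClosed_compl).isOpen_compl

theorem isIso_snd_comp {Z W : Scheme.{u}} (f : X ⟶ Y) (j : W ⟶ Y) (a : Z ⟶ W) [IsIso (pullback.snd f j)] :
    IsIso (pullback.snd f (a ≫ j)) := by
  rw [← (Iso.inv_comp_eq _).2 (pullbackLeftPullbackSndIso_hom_snd f j a).symm]
  infer_instance

/-- Isomorphisms descend along flat covering families for quasi-compact morphisms. -/
theorem isIso_of_forall_point (f : X ⟶ Y) [QuasiCompact f]
    (h : ∀ y : Y, ∃ (W : Scheme.{u}) (j : W ⟶ Y) (_ : Flat j), y ∈ Set.range j ∧ IsIso (pullback.snd f j)) :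
    IsIso f := by
  have hloc : ∀ y : Y, IsIso (pullback.snd f (Y.fromSpecStalk y)) := by
    intro y
    obtain ⟨W, j, _, ⟨w, rfl⟩, hh⟩ := h y
    let φ := Spec.map (j.stalkMap w)
    haveI := isIso_snd_comp f j (W.fromSpecStalk w)
    rw [← Scheme.SpecMap_stalkMap_fromSpecStalk] at this
    haveI : IsIso (pullback.snd (pullback.snd f (Y.fromSpecStalk (j w))) φ) := by
      rw [← pullbackLeftPullbackSndIso_hom_snd f (Y.fromSpecStalk (j w)) φ]
      infer_instance
    haveI hfst : IsIso (pullback.fst φ (pullback.snd f (Y.fromSpecStalk (j w)))) := by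
      rw [← pullbackSymmetry_hom_comp_snd]
      infer_instance
    have hff : (j.stalkMap w).hom.FaithfullyFlat := by
      algebraize [(j.stalkMap w).hom]
      exact @Module.FaithfullyFlat.of_flat_of_isLocalHom _ _ _ _ _ _ _ (Flat.stalkMap j w) (j.toLRSHom.prop w)
    obtain ⟨h₁, h₂⟩ := (flat_and_surjective_SpecMap_iff _).2 hff
    exact MorphismProperty.of_pullback_fst_of_descendsAlong (P := MorphismProperty.isomorphisms Scheme.{u})
      (Q := @Surjective ⊓ @Flat ⊓ @QuasiCompact) (f := φ) ⟨⟨h₂, h₁⟩, inferInstance⟩ hfst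
  have hhom := isHomeomorph_of_forall_point f fun y => by
    obtain ⟨W, j, hj, hy, hh⟩ := h y
    exact ⟨W, j, hj, hy, (pullback.snd f j).homeomorph.isHomeomorph⟩
  refine isomorphisms_eq_stalkwise.ge _ ⟨inferInstanceAs (IsIso (TopCat.isoOfHomeo hhom.homeomorph).hom), fun x => ?_⟩
  haveI := hloc (f x)
  let σ := inv (pullback.snd f (Y.fromSpecStalk (f x))) ≫ pullback.fst f (Y.fromSpecStalk (f x))
  have h1 : σ ≫ f = Y.fromSpecStalk (f x) := by
    rw [Category.assoc, pullback.condition, IsIso.inv_hom_id_assoc]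
  have h2 : Spec.map (f.stalkMap x) ≫ σ = X.fromSpecStalk x := by
    have e : pullback.lift (X.fromSpecStalk x) (Spec.map (f.stalkMap x))
        (Scheme.SpecMap_stalkMap_fromSpecStalk f).symm ≫ pullback.snd f (Y.fromSpecStalk (f x)) = Spec.map (f.stalkMap x) :=
      pullback.lift_snd _ _ _
    rw [← e, Category.assoc, IsIso.hom_inv_id_assoc, pullback.lift_fst]
  have hcl : σ (IsLocalRing.closedPoint (Y.presheaf.stalk (f x))) = x := hhom.injective (by
    rw [← Scheme.Hom.comp_apply, h1, Scheme.fromSpecStalk_closedPoint])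
  have hsec : ∀ a, σ (IsLocalRing.closedPoint (Y.presheaf.stalk (f x))) = a →
      ∃ τ : Spec (Y.presheaf.stalk (f x)) ⟶ Spec (X.presheaf.stalk a), τ ≫ X.fromSpecStalk a = σ := by
    rintro _ rfl
    exact ⟨_, Scheme.Spec_stalkClosedPointTo_fromSpecStalk σ⟩
  haveI : IsIso (Spec.map (f.stalkMap x)) := by
    obtain ⟨τ, hτ⟩ := hsec x hcl
    refine ⟨τ, ?_, ?_⟩
    · rw [← cancel_mono (X.fromSpecStalk x), Category.assoc, hτ, h2, Category.id_comp]
    · rw [← cancel_mono (Y.fromSpecStalk (f x)), Category.assoc, Scheme.SpecMap_stalkMap_fromSpecStalk,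
        ← Category.assoc, hτ, h1, Category.id_comp]
  exact (isIso_SpecMap_iff (f := f.stalkMap x)).1 inferInstance

/-- The affinization commutes with flat affine base change. -/
theorem isIso_snd_toSpecΓ {S T : Scheme.{u}} [IsAffine S] [IsAffine T] (f : X ⟶ S) [QuasiCompact f]
    [QuasiSeparated f] (u : T ⟶ S) [Flat u] [IsAffine (pullback f u)] :
    IsIso (pullback.snd X.toSpecΓ (pullback.fst (Spec.map f.appTop ≫ S.isoSpec.inv) u)) := by
  haveI := QuasiCompact.compactSpace_of_compactSpace f
  let p := Spec.map f.appTop ≫ S.isoSpec.inv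
  have hp : X.toSpecΓ ≫ p = f := by
    simp only [p]
    rw [← Category.assoc, ← Scheme.toSpecΓ_naturality, Category.assoc, ← Scheme.isoSpec_hom, Iso.hom_inv_id,
      Category.comp_id]
  haveI : IsAffineHom (pullback.fst p u) := inferInstance
  haveI : IsAffine (pullback p u) := isAffine_of_isAffineHom (pullback.fst p u)
  let m : pullback f u ⟶ pullback p u :=
    pullback.lift (pullback.fst f u ≫ X.toSpecΓ) (pullback.snd f u)
      (by rw [Category.assoc, hp, pullback.condition])
  have hQ := isPushout_appTop_of_isPullback (IsPullback.of_hasPullback p u)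
  haveI : IsIso X.toSpecΓ.appTop := by rw [Scheme.toSpecΓ_appTop]; infer_instance
  have hY : IsPushout f.appTop u.appTop (pullback.fst f u).appTop (pullback.snd f u).appTop := by
    have hP := (IsPullback.of_hasPullback f u)
    have := (isIso_pushoutSection_iff hP (US := ⊤) (UT := ⊤) (UX := ⊤) (by simp) (by simp)
      (UY := ⊤) (by simp)).1 (isIso_pushoutSection_of_isQuasiSeparated_of_flat_right hP _ _ _
        (isAffineOpen_top S) (isAffineOpen_top T) isCompact_univ
        (by
          haveI : QuasiSeparatedSpace X := quasiSeparatedSpace_of_quasiSeparated f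
          exact isQuasiSeparated_univ))
    simpa [Scheme.Hom.appLE] using this
  have hY' : IsPushout p.appTop u.appTop (X.toSpecΓ.appTop ≫ (pullback.fst f u).appTop)
      (pullback.snd f u).appTop := by
    refine hY.of_iso (.refl _) (asIso X.toSpecΓ.appTop).symm (.refl _) (.refl _) ?_ ?_ ?_ ?_
    · simp only [Iso.refl_hom, Category.id_comp, Iso.symm_hom, asIso_inv, IsIso.comp_inv_eq]
      rw [← Scheme.Hom.comp_appTop, hp]
    all_goals simp
  haveI : IsIso m.appTop := by
    have : m.appTop = (hQ.isoIsPushout _ _ hY').hom := by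
      apply hQ.hom_ext
      · rw [IsPushout.inl_isoIsPushout_hom, ← Scheme.Hom.comp_appTop, pullback.lift_fst, Scheme.Hom.comp_appTop]
      · rw [IsPushout.inr_isoIsPushout_hom, ← Scheme.Hom.comp_appTop, pullback.lift_snd]
    rw [this]; infer_instance
  haveI : IsIso m := by
    rw [← MorphismProperty.isomorphisms.iff, MorphismProperty.arrow_mk_iso_iff (MorphismProperty.isomorphisms Scheme.{u})
      (arrowIsoSpecΓOfIsAffine m)]
    exact (inferInstance : IsIso (Spec.map m.appTop))
  have sq : IsPullback (pullback.fst f u) m X.toSpecΓ (pullback.fst p u) := by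
    refine IsPullback.of_bot ?_ (pullback.lift_fst _ _ _).symm (IsPullback.of_hasPullback p u)
    rw [pullback.lift_snd, hp]
    exact IsPullback.of_hasPullback f u
  rw [← sq.isoPullback_inv_snd]
  infer_instance

/-- Affineness descends along flat surjective morphisms for quasi-compact quasi-separated morphisms. -/
theorem isAffine_of_flat_cover {S T : Scheme.{u}} [IsAffine S] (f : X ⟶ S) [QuasiCompact f] [QuasiSeparated f]
    (g : T ⟶ S) [Flat g] [Surjective g] [IsAffineHom (pullback.snd f g)] : IsAffine X := by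
  let p := Spec.map f.appTop ≫ S.isoSpec.inv
  haveI := QuasiCompact.compactSpace_of_compactSpace f
  haveI : IsIso X.toSpecΓ := by
    haveI : QuasiCompact X.toSpecΓ := quasiCompact_of_compactSpace _
    refine isIso_of_forall_point X.toSpecΓ fun z => ?_
    obtain ⟨t, ht⟩ := g.surjective (p z)
    obtain ⟨i, t₀, rfl⟩ : ∃ i t₀, T.affineCover.f i t₀ = t := ⟨_, T.affineCover.covers t⟩
    let u := T.affineCover.f i ≫ g
    haveI : IsAffineHom (pullback.snd f u) := by
      rw [← (Iso.inv_comp_eq _).2 (pullbackLeftPullbackSndIso_hom_snd f g (T.affineCover.f i)).symm]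
      infer_instance
    haveI : IsAffine (pullback f u) := isAffine_of_isAffineHom (pullback.snd f u)
    refine ⟨_, pullback.fst p u, MorphismProperty.pullback_fst p u inferInstance, ?_, isIso_snd_toSpecΓ f u⟩
    obtain ⟨w, hw, -⟩ := Scheme.Pullback.exists_preimage_pullback (f := p) (g := u) z t₀ ht.symm
    exact ⟨w, hw⟩
  exact ⟨inferInstance⟩

theorem isAffineHom_of_flat_cover {T : Scheme.{u}} (f : X ⟶ Y) [QuasiCompact f] [QuasiSeparated f]
    (g : T ⟶ Y) [Flat g] [Surjective g] [IsAffineHom (pullback.snd f g)] : IsAffineHom f := by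
  refine ⟨fun U hU => ?_⟩
  haveI : IsAffine U := hU
  haveI : IsAffineHom (pullback.snd (f ∣_ U) (g ∣_ U)) := by
    have sq := (isPullback_morphismRestrict f U)
    have sq' := (isPullback_morphismRestrict g U)
    have big : IsPullback (pullback.fst (f ∣_ U) (g ∣_ U) ≫ (f ⁻¹ᵁ U).ι) (pullback.snd (f ∣_ U) (g ∣_ U))
        f ((g ⁻¹ᵁ U).ι ≫ g) := by
      rw [← morphismRestrict_ι]
      exact (IsPullback.of_hasPullback (f ∣_ U) (g ∣_ U)).paste_horiz sq.flip
    rw [← big.isoPullback_hom_snd]
    haveI : IsAffineHom (pullback.snd f ((g ⁻¹ᵁ U).ι ≫ g)) := by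
      rw [← (Iso.inv_comp_eq _).2 (pullbackLeftPullbackSndIso_hom_snd f g (g ⁻¹ᵁ U).ι).symm]
      haveI : IsAffineHom (pullback.snd (pullback.snd f g) (g ⁻¹ᵁ U).ι) :=
        MorphismProperty.pullback_snd _ _ inferInstance
      infer_instance
    infer_instance
  haveI : Surjective (g ∣_ U) := IsZariskiLocalAtTarget.restrict (P := @Surjective) ‹Surjective g› U
  exact isAffine_of_flat_cover (f ∣_ U) (g ∣_ U)

end Groth.Agent.FlatDesc26
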